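import Groth.Agent.WNA.FiniteQuot
import Groth.Agent.AlgStB.DiagCover
import Groth.Agent.AlgStB.DiagComp
import Groth.Agent.AlgStB.DiagLft
import Groth.Agent.AlgStB.SmoothLocal
import Groth.Agent.AlgSpc.TestedMor
import Groth.Agent.AlgSpLoc.Inst3
import Groth.Agent.IsoNatSm.StabAffine
import Groth.Agent.S10272
import Groth.Prelude.Def_W4stkstmodspWNA

/-!
# Well-nigh affine stacks are quasi-compact, quasi-DM and separated: the diagonal is finite
-/

set_option autoImplicit false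
set_option linter.style.haveILetI false
set_option backward.isDefEq.respectTransparency false
set_option backward.isDefEq.respectTransparency.types false

universe v₃ u₃ v₂ u₂ u

open CategoryTheory CategoryTheory.Limits AlgebraicGeometry Opposite

namespace Groth.Agent.WNA

open _root_.AlgSp Groth.Agent.AlgStB

variable {S : Scheme.{u}}

instance respectsIso_isSeparatedMor : (IsSeparatedMor (S := S)).RespectsIso :=
  inferInstanceAs ((RepWith (S := S) @IsClosedImmersion).diagonal.RespectsIso)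

/-- A property of a morphism to a representable sheaf is tested on the identity. -/
theorem prop_of_repByAlgSpWith_ofSpMap {Q : MorphismProperty (Sp S)} [Q.RespectsIso] {F : Sp S}
    {T : Over S} (a : F ⟶ (yon S).obj T) (h : AlgSt.RepByAlgSpWith Q (AlgSt.ofSpMap a)) : Q a :=
  ((repBySpWith_hom_iff _ a).1 (repBySpWith_of_repByAlgSpWith h) (𝟙 _) _ _ (IsPullback.id_horiz a)).2

/-- Spaces over the base are separated over the base when affine. -/
theorem repByAlgSpWith_separated_toSelf (T : Over S) [IsAffine T.left] :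
    AlgSt.RepByAlgSpWith IsSeparatedMor (FibCat.toSelf (FibCat.overCat T)) := by
  let B : Over S := Over.mk (𝟙 S)
  let t : T ⟶ B := Over.homMk T.hom (Category.comp_id _)
  have hb := isEquivOver_toSelf_overCat (T := B) Over.mkIdTerminal
  have h : AlgSt.RepByAlgSpWith IsSeparatedMor (AlgSt.ofSpMap ((yon S).map t)) := by
    refine repByAlgSpWith_of_repBySpWith ((repBySpWith_hom_iff _ _).2 fun U ξ P fst snd sq => ?_)
    obtain ⟨m, rfl⟩ := (yon S).map_surjective ξ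
    refine ⟨AlgSpc.isAlgSpace_of_isPullback (IsAlgSpace.yon_obj T) (IsAlgSpace.yon_obj B)
      (IsAlgSpace.yon_obj U) sq, ?_⟩
    have sq0 := (IsPullback.of_hasPullback t m).map (yon S)
    have : IsSeparated t.left := inferInstanceAs (IsSeparated T.hom)
    have : IsSeparated (pullback.snd t m).left := MorphismProperty.of_isPullback
      ((IsPullback.of_hasPullback t m).map (Over.forget S)) ‹IsSeparated t.left›
    have h0 := IsoNatSm.isSeparatedMor_yon_map (pullback.snd t m)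
    rw [← sq.isoIsPullback_hom_snd _ _ sq0]
    exact ((IsSeparatedMor (S := S)).cancel_left_of_respectsIso _ _).2 h0
  exact (repByAlgSpWith_iff_of_square (FibCat.toSelf (FibCat.overCat T))
    (AlgSt.ofSpMap ((yon S).map t)) (AlgSt.toOverCat T)
    (BasedFunctor.comp (AlgSt.toOverCat B) (FibCat.toSelf (FibCat.overCat B)))
    (isEquivOver_toOverCat T) (Fib.isEquivOver_comp (isEquivOver_toOverCat B) hb) (Fib.toSelfIso _ _)).2 h

theorem repByAlgSpWith_finite_of_comp {𝒜 : BasedCategory.{v₂, u₂} (Over S)}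
    {ℬ : BasedCategory.{v₃, u₃} (Over S)} {T : Over S}
    (hA : AlgSt.RepByAlgSp 𝒜) (hB : AlgSt.RepByAlgSp ℬ) (f : 𝒜 ⥤ᵇ ℬ) (g : ℬ ⥤ᵇ FibCat.overCat T)
    (hg : AlgSt.RepByAlgSpWith IsSeparatedMor g)
    (h : AlgSt.RepByAlgSpWith IsFiniteMor (BasedFunctor.comp f g)) :
    AlgSt.RepByAlgSpWith IsFiniteMor f := by
  obtain ⟨F, a, ha⟩ := hA
  obtain ⟨G, b, hb⟩ := hB
  obtain ⟨b', -, -, ⟨j⟩⟩ := Fib.exists_quasiInverse hb
  obtain ⟨φ, ⟨k⟩⟩ := exists_ofSpMap (BasedFunctor.comp a (BasedFunctor.comp f b'))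
  let i : BasedFunctor.comp (AlgSt.ofSpMap φ) b ≅ BasedFunctor.comp a f :=
    Fib.isoWhiskerRight k.symm b ≪≫ Fib.isoWhiskerLeft (BasedFunctor.comp a f) j
  let γ := AlgSt.spMapOfOver (BasedFunctor.comp b g)
  let i' : BasedFunctor.comp (AlgSt.ofSpMap (φ ≫ γ)) (AlgSt.toOverCat T) ≅
      BasedFunctor.comp a (BasedFunctor.comp f g) :=
    Fib.isoWhiskerLeft (AlgSt.ofSpMap φ) (isoOfOver (BasedFunctor.comp b g)).symm ≪≫
      Fib.isoWhiskerRight i g
  have h' := prop_of_repByAlgSpWith_ofSpMap _ ((repByAlgSpWith_iff_of_square (BasedFunctor.comp f g)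
    (AlgSt.ofSpMap (φ ≫ γ)) a (AlgSt.toOverCat T) ha (isEquivOver_toOverCat T) i').1 h)
  have hγ := prop_of_repByAlgSpWith_ofSpMap _ ((repByAlgSpWith_iff_of_square g (AlgSt.ofSpMap γ) b
    (AlgSt.toOverCat T) hb (isEquivOver_toOverCat T) (isoOfOver (BasedFunctor.comp b g)).symm).1 hg)
  have hφ : IsFiniteMor φ := (Groth.Agent.S10272.result (X := F) (Y := G)
    (Z := ⟨_, IsAlgSpace.yon_obj T⟩) (ObjectProperty.homMk φ) (ObjectProperty.homMk γ) hγ).1 h'
  exact (repByAlgSpWith_iff_of_square f (AlgSt.ofSpMap φ) a b ha hb i).2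
    (repByAlgSpWith_of_repBySpWith ((repBySpWith_hom_iff _ φ).2 fun U ξ P fst snd sq =>
      ⟨AlgSpc.isAlgSpace_of_isPullback F.property G.property (IsAlgSpace.yon_obj U) sq,
        (AlgSpc.repWith_finite_iff _).2 (AlgSpc.repWith_of_isPullback sq ((AlgSpc.repWith_finite_iff _).1 hφ))⟩))

theorem hc_finite : ∀ ⦃X Y Z : Sp S⦄, IsAlgSpace X → IsAlgSpace Y → IsAlgSpace Z →
      ∀ (a : X ⟶ Y) (b : Y ⟶ Z),
        (∀ (T : Over S) (p : (yon S).obj T ⟶ Y), IsFiniteMor (pullback.snd a p)) →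
        IsFiniteMor b → IsFiniteMor (a ≫ b) :=
  hc_of_fpqcLocal AlgSpLoc.isLocalOnBase_finite fun _ _ _ _ _ _ _ _ ha hb =>
    (AlgSpc.repWith_finite_iff _).2
      (AlgSpc.repWith_comp ((AlgSpc.repWith_finite_iff _).1 ha) ((AlgSpc.repWith_finite_iff _).1 hb))

/-- The diagonal of a well-nigh affine stack is finite. -/
theorem repByAlgSpWith_finite_diag {𝒳 : AlgSt.Cat S}
    (h𝒳 : AlgSt.IsAlgStack Scheme.fppfPrecoverage 𝒳) (hw : AlgSt.IsWellNighAffine 𝒳) :
    AlgSt.RepByAlgSpWith IsFiniteMor (FibCat.diag (FibCat.toSelf 𝒳)) := by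
  obtain ⟨T, x, hT, hx⟩ := hw
  haveI := hT
  have hx₁ : AlgSt.RepByAlgSpWith (LocP @Flat) x := repByAlgSpWith_mono (fun _ _ _ h => h.1.1.2) hx
  have hx₂ : AlgSt.RepByAlgSpWith (LocP @LocallyOfFinitePresentation) x :=
    repByAlgSpWith_mono (fun _ _ _ h => h.2) hx
  have hx₃ : AlgSt.RepByAlgSpWith IsSurjectiveMor x := repByAlgSpWith_mono (fun _ _ _ h => h.1.1.1) hx
  have hxf : AlgSt.RepByAlgSpWith IsFiniteMor x := repByAlgSpWith_mono (fun _ _ _ h => h.1.2) hx
  obtain ⟨hst, hΔ, -⟩ := h𝒳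
  let sT := FibCat.toSelf (FibCat.overCat T)
  let sX := FibCat.toSelf 𝒳
  let q : FibCat.fp sT sT ⥤ᵇ FibCat.fp sX sX :=
    FibCat.fpLift (BasedFunctor.comp (FibCat.fpFst sT sT) x)
      (BasedFunctor.comp (FibCat.fpSnd sT sT) x) (Fib.toSelfIso _ _)
  have hg := Fib.isFibGrpd_overCat T
  have hTT : AlgSt.RepByAlgSp (FibCat.fp sT sT) :=
    repByAlgSp_fp hg Fib.isFibGrpd_selfOver
      (repByAlgSp1_of_repByAlgSp (repByAlgSp_overCat T) repByAlgSp_selfOver sT) sT
      (repByAlgSp_overCat T)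
  refine repByAlgSpWith_of_fppf respectsSrcIso_of_respectsIso
    (isLocalOnBase_fppf_of_fpqc AlgSpLoc.isLocalOnBase_finite) _ hΔ q
    (repByAlgSpWith_prodMap respectsSrcIso_locP hc_locP hg hst.1 hx₁ hx₁ (Fib.toSelfIso _ _))
    (repByAlgSpWith_prodMap respectsSrcIso_locP hc_locP hg hst.1 hx₂ hx₂ (Fib.toSelfIso _ _))
    (repByAlgSpWith_prodMap respectsSrcIso_isSurjectiveMor hc_surjective hg hst.1 hx₃ hx₃
      (Fib.toSelfIso _ _)) ?_
  obtain ⟨e, he⟩ := exists_twoCart_toProd x x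
  refine (repByAlgSpWith_iff_of_square (FibCat.fpFst q (FibCat.diag sX))
    (FibCat.fpLift (FibCat.fpFst x x) (FibCat.fpSnd x x) (Fib.toSelfIso _ _))
    (FibCat.fpLift _ _ e) (BasedFunctor.id _) he (Fib.isEquivOver_id _) (Iso.refl _)).2 ?_
  exact repByAlgSpWith_finite_of_comp
    (repByAlgSp_fp hg hst.1 (repByAlgSp1_of_with hxf) x (repByAlgSp_overCat T))
    hTT _ (FibCat.fpFst sT sT) (repByAlgSpWith_fpFst sT sT (repByAlgSpWith_separated_toSelf T))
    (repByAlgSpWith_fpFst x x hxf)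

theorem isSeparatedOver_and_isQuasiDMOver {𝒳 : AlgSt.Cat S}
    (h𝒳 : AlgSt.IsAlgStack Scheme.fppfPrecoverage 𝒳) (hw : AlgSt.IsWellNighAffine 𝒳) :
    AlgSt.IsQuasiDMOver 𝒳 ∧ AlgSt.IsSeparatedOver 𝒳 := by
  have h := repByAlgSpWith_finite_diag h𝒳 hw
  refine ⟨repByAlgSpWith_mono (fun X Y f hf => ?_) h, fun U y => ?_⟩
  · exact AlgSpc.locP_of_repWith (P := @LocallyQuasiFinite ⊓ @LocallyOfFiniteType)
      (fun e f he hf => by
        have := he
        have := AlgSpc.lqf_of_etale e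
        have h1 : LocallyQuasiFinite f := hf.1
        have h2 : LocallyOfFiniteType f := hf.2
        exact ⟨(inferInstance : LocallyQuasiFinite (e ≫ f)), (inferInstance : LocallyOfFiniteType (e ≫ f))⟩)
      (AlgSpc.repWith_mono (fun _ _ k (hk : IsFinite k) =>
        ⟨(inferInstance : LocallyQuasiFinite k), (inferInstance : LocallyOfFiniteType k)⟩)
        ((AlgSpc.repWith_finite_iff f).1 hf))
  · obtain ⟨F, e, he, hf⟩ := h U y
    exact ⟨F, e, he, ((AlgSpc.isFiniteMor_iff F.property (IsAlgSpace.yon_obj U) _).1 hf).2⟩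

theorem isQuasiCompact_of_wna {𝒳 : AlgSt.Cat S}
    (h𝒳 : AlgSt.IsAlgStack Scheme.fppfPrecoverage 𝒳) (hw : AlgSt.IsWellNighAffine 𝒳) :
    AlgSt.IsQuasiCompact 𝒳 := by
  obtain ⟨U, x, hU, hx⟩ := hw
  haveI := hU
  have hg := h𝒳.isStack.1
  rw [isQuasiCompact_iff h𝒳]
  refine ⟨?_⟩
  rw [← (surjective_ofChart hg x (repByAlgSpWith_mono (fun _ _ _ h => h.1.1.1) hx)).range_eq]
  exact isCompact_range (continuous_ofChart hg h𝒳.atlas x)

end Groth.Agent.WNA
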