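import Groth.Agent.AlgSpBoot.Slice
import Groth.Agent.AlgSpBoot.OfRel
import Groth.Agent.GrpdQ.Main
import Groth.Agent.AlgSpc.LocSurj
import Groth.Agent.AlgStB.TargetDescent
import Groth.Agent.AlgStB.QuotChartMain

/-!
# An algebraic space with a finite flat cover by an affine scheme is an affine scheme
-/

set_option autoImplicit false
set_option linter.style.haveILetI false
set_option backward.isDefEq.respectTransparency false
set_option backward.isDefEq.respectTransparency.types false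

universe u

open CategoryTheory CategoryTheory.Limits AlgebraicGeometry Opposite

namespace Groth.Agent.WNA

open _root_.AlgSp Groth.Agent.AlgSpc Groth.Agent.AlgSpLoc

variable {S : Scheme.{u}}

instance respectsIso_isFiniteMor : (IsFiniteMor (S := S)).RespectsIso := by
  apply MorphismProperty.RespectsIso.mk
  · intro X Y Z e f hf T hT g
    obtain ⟨W, i, fst, sq, hW, hi⟩ := hf hT g
    refine ⟨W, i, fst ≫ e.inv, sq.of_iso (Iso.refl _) e.symm (Iso.refl _) (Iso.refl _)
      (by simp) (by simp) (by simp) (by simp), hW, hi⟩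
  · intro X Y Z e f hf T hT g
    obtain ⟨W, i, fst, sq, hW, hi⟩ := hf hT (g ≫ e.inv)
    refine ⟨W, i, fst, sq.of_iso (Iso.refl _) (Iso.refl _) (Iso.refl _) e
      (by simp) (by simp) (by simp) (by simp), hW, hi⟩

/-- Two epimorphisms of sheaves with a common kernel pair have isomorphic targets. -/
theorem exists_iso_of_kernelPair {R U F G : Sp S} {a b : R ⟶ U} {p : U ⟶ F} {q : U ⟶ G}
    [Sheaf.IsLocallySurjective p] [Sheaf.IsLocallySurjective q]
    (hp : IsPullback a b p p) (hq : IsPullback a b q q) : Nonempty (F ≅ G) := by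
  haveI : Epi p := inferInstance
  haveI : Epi q := inferInstance
  haveI := effectiveEpi_of_epi p
  haveI := effectiveEpi_of_epi q
  have hpq : ∀ {Z : Sp S} (g₁ g₂ : Z ⟶ U), g₁ ≫ p = g₂ ≫ p → g₁ ≫ q = g₂ ≫ q := fun g₁ g₂ w => by
    rw [← hp.lift_fst g₁ g₂ w, Category.assoc, hq.w, ← Category.assoc, hp.lift_snd]
  have hqp : ∀ {Z : Sp S} (g₁ g₂ : Z ⟶ U), g₁ ≫ q = g₂ ≫ q → g₁ ≫ p = g₂ ≫ p := fun g₁ g₂ w => by
    rw [← hq.lift_fst g₁ g₂ w, Category.assoc, hp.w, ← Category.assoc, hq.lift_snd]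
  let h := EffectiveEpi.desc p q (fun g₁ g₂ w => hpq g₁ g₂ w)
  let k := EffectiveEpi.desc q p (fun g₁ g₂ w => hqp g₁ g₂ w)
  have hh : p ≫ h = q := EffectiveEpi.fac p q _
  have hk : q ≫ k = p := EffectiveEpi.fac q p _
  exact ⟨⟨h, k, (cancel_epi p).1 (by rw [reassoc_of% hh, hk, Category.comp_id]),
    (cancel_epi q).1 (by rw [reassoc_of% hk, hh, Category.comp_id])⟩⟩

/-- Base change of a relatively representable map to an affine scheme. -/
theorem exists_affine_sq {F : Sp S} {U : Over S} {q : (yon S).obj U ⟶ F}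
    (hq : RepBySpWith (IsFiniteMor ⊓ IsSurjectiveMor) q.hom) (hU : IsAffine U.left)
    (hfl : RepBySpWith (LocP @Flat) q.hom) (hfp : RepBySpWith (LocP @LocallyOfFinitePresentation) q.hom) :
    ∃ (R : Over S) (r₁ r₂ : R ⟶ U), IsPullback ((yon S).map r₁) ((yon S).map r₂) q q ∧
      IsAffine R.left ∧ IsFinite r₂.left ∧ Flat r₂.left ∧ LocallyOfFinitePresentation r₂.left := by
  obtain ⟨-, hf, -⟩ := (repBySpWith_hom_iff _ q).1 hq q _ _ (IsPullback.of_hasPullback q q)
  obtain ⟨W, i, fst, sq, hW, hi⟩ := hf hU (𝟙 _)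
  have sq' : IsPullback (fst ≫ pullback.fst q q) ((yon S).map i) q q := by
    simpa only [Category.id_comp] using sq.paste_horiz (IsPullback.of_hasPullback q q)
  obtain ⟨r₁, hr₁⟩ := (yon S).map_surjective (fst ≫ pullback.fst q q)
  rw [← hr₁] at sq'
  obtain ⟨-, h₁⟩ := (repBySpWith_hom_iff _ q).1 hfl q _ _ sq'
  obtain ⟨-, h₂⟩ := (repBySpWith_hom_iff _ q).1 hfp q _ _ sq'
  exact ⟨W, r₁, i, sq', hW, hi, locP_yon_map h₁, locP_yon_map h₂⟩

theorem isLocallySurjective_yon_map {U M : Over S} (p : U ⟶ M) [Flat p.left]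
    [LocallyOfFinitePresentation p.left] [Surjective p.left] :
    Sheaf.IsLocallySurjective ((yon S).map p) :=
  Groth.Agent.AlgSpc.isLocallySurjective_of_exists fun T g => by
    obtain ⟨m, rfl⟩ := (yon S).map_surjective g
    have sq := FppfDescent.isPullback_forget (IsPullback.of_hasPullback p m)
    refine ⟨pullback p m, pullback.snd p m, (yon S).map (pullback.fst p m),
      MorphismProperty.of_isPullback sq ‹Flat p.left›,
      MorphismProperty.of_isPullback sq ‹LocallyOfFinitePresentation p.left›,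
      MorphismProperty.of_isPullback (P := @Surjective) sq ‹_›, ?_⟩
    rw [← Functor.map_comp, pullback.condition, Functor.map_comp]

/-- An algebraic space with a finite locally free surjective map from an affine scheme is an affine scheme. -/
theorem exists_affine_of_finite_flat_cover {F : Sp S} {U : Over S} (hU : IsAffine U.left)
    {q : (yon S).obj U ⟶ F} (hq : RepBySpWith (IsFiniteMor ⊓ IsSurjectiveMor) q.hom)
    (hfl : RepBySpWith (LocP @Flat) q.hom) (hfp : RepBySpWith (LocP @LocallyOfFinitePresentation) q.hom) :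
    ∃ M : Over S, IsAffine M.left ∧ Nonempty ((yon S).obj M ≅ F) := by
  haveI : Sheaf.IsLocallySurjective q := Groth.Agent.AlgSpc.isLocallySurjective_of_repBySpWith
    ((repBySpWith_hom_iff _ q).2 fun T g P fst snd sq =>
      ⟨((repBySpWith_hom_iff _ q).1 hq g fst snd sq).1,
        ⟨((repBySpWith_hom_iff _ q).1 hq g fst snd sq).2.2, ((repBySpWith_hom_iff _ q).1 hfl g fst snd sq).2⟩,
        ((repBySpWith_hom_iff _ q).1 hfp g fst snd sq).2⟩)
  obtain ⟨R, r₁, r₂, sq, hR, h₁, h₂, h₃⟩ := exists_affine_sq hq hU hfl hfp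
  obtain ⟨i, c, e, he₂, he₁, hi₂, hi₁, hc₂, hc₁⟩ := AlgSpBoot.exists_kerGroupoid sq
  let G : Grpd.GroupoidScheme S := AlgSpBoot.ofRel U.hom r₂.left r₁.left
    ((Over.w r₁).trans (Over.w r₂).symm)
    (fun a b h₂ h₁ => AlgSpBoot.kernelPair_ext sq a b h₂ h₁) e he₂ he₁ i hi₂ hi₁ c hc₂ hc₁
  haveI : Mono G.j := AlgSpBoot.mono_j_ofRel G fun a b h₂ h₁ => AlgSpBoot.kernelPair_ext sq a b h₂ h₁
  have hiso : IsIso i := ⟨i,
    AlgSpBoot.kernelPair_ext sq _ _ (by simp [Category.assoc, hi₂, hi₁]) (by simp [Category.assoc, hi₂, hi₁]),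
    AlgSpBoot.kernelPair_ext sq _ _ (by simp [Category.assoc, hi₂, hi₁]) (by simp [Category.assoc, hi₂, hi₁])⟩
  haveI : IsAffine G.U := hU
  haveI : IsAffine G.R := hR
  haveI : IsFinite G.s := h₁
  haveI : Flat G.s := h₂
  haveI : LocallyOfFinitePresentation G.s := h₃
  haveI : IsFinite G.t := by show IsFinite r₁.left; rw [← hi₂]; infer_instance
  haveI : Flat G.t := by show Flat r₁.left; rw [← hi₂]; infer_instance
  haveI : LocallyOfFinitePresentation G.t := by
    show LocallyOfFinitePresentation r₁.left; rw [← hi₂]; infer_instance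
  obtain ⟨n, ⟨Fr⟩⟩ := GrpdQ.exists_frame G
  obtain ⟨p₁, p₂, p₃⟩ := GrpdQ.toQuot_props G
  haveI := p₁; haveI := p₂; haveI := p₃
  haveI : Surjective G.toQuot := ⟨GrpdQ.surjective_toQuot Fr⟩
  obtain ⟨m, ⟨hm, -⟩, -⟩ := GrpdQ.isQuotient G
  let M : Over S := Over.mk m
  let p : U ⟶ M := Over.homMk G.toQuot hm
  haveI : Flat p.left := p₂
  haveI : LocallyOfFinitePresentation p.left := p₃
  haveI : Surjective p.left := inferInstanceAs (Surjective G.toQuot)
  haveI := isLocallySurjective_yon_map p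
  have sqp : IsPullback r₁ r₂ p p :=
    IsPullback.of_map_of_faithful (F := Over.forget S) (GrpdQ.isPullback_toQuot G)
  exact ⟨M, inferInstanceAs (IsAffine (Spec _)), exists_iso_of_kernelPair (sqp.map (yon S)) sq⟩

end Groth.Agent.WNA
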